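import Groth.Agent.Lib.Helper19.DvrVC.Sep
import Groth.Agent.S4450

/-!
# Noetherian (discrete valuation ring) existence criterion: closedness
-/

set_option autoImplicit false
universe u
open CategoryTheory CategoryTheory.Limits AlgebraicGeometry MorphismProperty TopologicalSpace
open AlgSp

namespace Groth.Agent.Helper19.DvrVC
open Groth.Agent.Helper15 Groth.Agent.Helper16.AS
variable {S : Scheme.{u}}

open IsLocalRing

/-- Existence part of the valuative criterion restricted to discrete valuation rings
(lifts after dominating extensions allowed). -/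
def DvrExist {X Y : Sp S} (f : X ⟶ Y) : Prop :=
  ∀ sq : ValSq f, IsDiscreteValuationRing sq.A → sq.HasLiftExt

set_option backward.isDefEq.respectTransparency.types false in
/-- Key specialization lemma for the discrete valuation ring existence criterion. -/
theorem exists_mem_of_specializes_of_dvrExist {X Y : Sp S} (f : X ⟶ Y) (he : DvrExist f)
    {U W : Over S} [IsLocallyNoetherian W.left] (a : (yon S).obj U ⟶ X) (q : (yon S).obj W ⟶ Y)
    (h : U ⟶ W) [LocallyOfFiniteType h.left]
    (comm : a ≫ f = (yon S).map h ≫ q) (C : Set (Points X)) (hC : IsClosed C)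
    (u' : U.left) (hu' : Points.ofPt a u' ∈ C) (w : W.left) (hw : h.left u' ⤳ w) :
    ∃ x ∈ C, Points.map f x = Points.ofPt q w := by
  by_cases hne : w = h.left u'
  · refine ⟨Points.ofPt a u', hu', ?_⟩
    rw [Points.map_ofPt, comm, ofPt_comp_yon_map, hne]
  obtain ⟨A, hA, hdvr, hcl, hcomp⟩ := Groth.Agent.S4450.result h.left u' w hw hne
  have hw' : U.left.fromSpecResidueField u' ≫ h.left =
      Spec.map (CommRingCat.ofHom (algebraMap A (U.left.residueField u'))) ≫ hA := hcomp.symm
  let strA : Spec (.of A) ⟶ S := hA ≫ W.hom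
  let β : Over.mk strA ⟶ W := Over.homMk hA rfl
  have hρ : U.left.fromSpecResidueField u' ≫ U.hom =
      Spec.map (CommRingCat.ofHom (algebraMap A (U.left.residueField u'))) ≫ strA := by
    rw [← Over.w h, ← Category.assoc, hw']
    simp only [strA, Category.assoc]
  let ρ : Over.mk (Spec.map (CommRingCat.ofHom (algebraMap A (U.left.residueField u'))) ≫ strA) ⟶
      U := Over.homMk (U.left.fromSpecResidueField u') hρ
  let jj : Over.mk (Spec.map (CommRingCat.ofHom (algebraMap A (U.left.residueField u'))) ≫ strA) ⟶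
      Over.mk strA := Over.homMk (Spec.map (CommRingCat.ofHom (algebraMap A _))) rfl
  have hρh : ρ ≫ h = jj ≫ β := by
    ext
    exact hw'
  let sq : ValSq f :=
    { A := A, K := U.left.residueField u', str := strA, top := (yon S).map ρ ≫ a
      bot := (yon S).map β ≫ q
      comm := by
        calc ((yon S).map ρ ≫ a) ≫ f = (yon S).map ρ ≫ (yon S).map h ≫ q := by
              rw [Category.assoc, comm]
          _ = (yon S).map (ρ ≫ h) ≫ q := by rw [Functor.map_comp, Category.assoc]
          _ = (yon S).map (jj ≫ β) ≫ q := by rw [hρh]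
          _ = (yon S).map jj ≫ (yon S).map β ≫ q := by rw [Functor.map_comp, Category.assoc] }
  have hdvr' : IsDiscreteValuationRing sq.A := hdvr
  obtain ⟨e, l, hl1, hl2⟩ := he sq hdvr'
  haveI := e.isLocalHom
  let c : e.ptA'.left := closedPoint e.A'
  let η : e.ptK'.left := closedPoint e.K'
  refine ⟨Points.ofPt l c, ?_, ?_⟩
  · have hη : Points.ofPt l ((Spec.map (CommRingCat.ofHom (algebraMap e.A' e.K'))) η) =
        Points.ofPt a u' := by
      refine (ofPt_comp_yon_map (Over.homMk (Spec.map (CommRingCat.ofHom (algebraMap e.A' e.K'))) rfl :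
        e.ptK' ⟶ e.ptA') l η).symm.trans ?_
      rw [hl1]
      change Points.ofPt (_ ≫ (yon S).map ρ ≫ a) η = _
      rw [ofPt_comp_yon_map, ofPt_comp_yon_map]
      congr 1
      exact Scheme.fromSpecResidueField_apply _ _
    have hsp : (Spec.map (CommRingCat.ofHom (algebraMap e.A' e.K'))) η ⤳ c :=
      specializes_closedPoint (R := e.A') _
    have := hsp.map (Points.continuous_ofPt l)
    rw [hη] at this
    exact this.mem_closed hC hu'
  · rw [Points.map_ofPt, hl2]
    change Points.ofPt (_ ≫ (yon S).map β ≫ q) c = _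
    rw [ofPt_comp_yon_map, ofPt_comp_yon_map]
    congr 1
    change hA (Spec.map (CommRingCat.ofHom e.φ) c) = w
    have h1 : Spec.map (CommRingCat.ofHom e.φ) c = closedPoint A :=
      comap_closedPoint (S := e.A') e.φ
    rw [h1]
    exact hcl

end Groth.Agent.Helper19.DvrVC

namespace Groth.Agent.Helper19.DvrVC
open Groth.Agent.Helper15 Groth.Agent.Helper16.AS Groth.Agent.Helper19.ValCopy
variable {S : Scheme.{u}}

/-- A morphism of finite type to a locally Noetherian algebraic space satisfying the existence part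
of the valuative criterion for discrete valuation rings is closed. -/
theorem isClosedMor_of_dvrExist {X Y : Sp S} (hX : IsAlgSpace X) (hY : IsAlgSpace Y)
    (f : X ⟶ Y) (hft : IsFiniteTypeMor f) (hYn : IsLocNoethSp Y) (he : DvrExist f) :
    IsClosedMor f := by
  obtain ⟨hlft, hq⟩ := hft
  obtain ⟨W, q, hqe, hqs⟩ := hY.atlas
  haveI : IsLocallyNoetherian W.left := isLocallyNoetherian_of_etale_of_isLocNoethSp hYn q hqe
  have hquot : Topology.IsQuotientMap (Points.ofPt q) :=
    (isOpenMap_ofPt_of_etale q hqe).isQuotientMap (Points.continuous_ofPt q)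
      (surjective_ofPt q hqs)
  intro C hC
  rw [← hquot.isClosed_preimage]
  apply isClosed_of_openCover W.left.affineCover
  intro i
  let Wi : Over S := Over.mk (W.left.affineCover.f i ≫ W.hom)
  let ιi : Wi ⟶ W := Over.homMk (W.left.affineCover.f i) rfl
  haveI hWi : IsAffine Wi.left := by
    change IsAffine (W.left.affineCover.X i); infer_instance
  haveI hWin : IsLocallyNoetherian Wi.left := by
    change IsLocallyNoetherian (W.left.affineCover.X i)
    exact isLocallyNoetherian_of_isOpenImmersion (W.left.affineCover.f i)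
  let qi : (yon S).obj Wi ⟶ Y := (yon S).map ιi ≫ q
  have hqie : RepWith @Etale qi := by
    refine (RepWith @Etale).comp_mem _ _ ((repWith_yon_map_iff _ ιi).2 ?_) hqe
    change Etale (W.left.affineCover.f i)
    infer_instance
  have pb : IsPullback (pullback.fst f qi) (pullback.snd f qi) f qi := IsPullback.of_hasPullback _ _
  have hP : IsAlgSpace (pullback f qi) :=
    isAlgSpace_of_isPullback hY.diag hX (IsAlgSpace.yon_obj Wi) pb
  have hPq : IsQuasiCompactSp (pullback f qi) :=
    hq (IsAlgSpace.yon_obj Wi) ((isQuasiCompactSp_yon_iff Wi).2 inferInstance) qi _ _ pb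
  obtain ⟨U, p, hU, hpe, hps⟩ := exists_affine_chart_of_isQuasiCompactSp hPq
  haveI := hU
  obtain ⟨h, hh⟩ := (yon S).map_surjective (p ≫ pullback.snd f qi)
  let a : (yon S).obj U ⟶ X := p ≫ pullback.fst f qi
  have hae : RepWith @Etale a :=
    (RepWith @Etale).comp_mem _ _ hpe ((RepWith @Etale).of_isPullback pb.flip hqie)
  have comm : a ≫ f = (yon S).map h ≫ qi := by
    rw [hh, Category.assoc, Category.assoc, pb.w]
  haveI : LocallyOfFiniteType h.left := hlft a qi h hae hqie comm
  have key : Points.ofPt qi ⁻¹' (Points.map f '' C) = h.left '' (Points.ofPt a ⁻¹' C) := by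
    ext w
    constructor
    · rintro ⟨x, hx, hxw⟩
      rw [Points.ofPt_eq_map_ofScheme qi w] at hxw
      obtain ⟨p', hp1, hp2⟩ := exists_point_of_isPullback pb x _ hxw
      obtain ⟨u, rfl⟩ := surjective_ofPt p hps p'
      rw [Points.map_ofPt] at hp1 hp2
      rw [← hh, Groth.Agent.Helper15.ofPt_yon_map] at hp2
      refine ⟨u, ?_, (Points.schemeEquiv Wi).injective hp2⟩
      change Points.ofPt a u ∈ C
      rw [hp1]; exact hx
    · rintro ⟨u, hu, rfl⟩
      refine ⟨Points.ofPt a u, hu, ?_⟩
      rw [Points.map_ofPt, comm, ofPt_comp_yon_map]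
  have e : (W.left.affineCover.f i) ⁻¹' (Points.ofPt q ⁻¹' (Points.map f '' C)) =
      Points.ofPt qi ⁻¹' (Points.map f '' C) := by
    ext w
    simp only [Set.mem_preimage]
    rw [ofPt_comp_yon_map]
    rfl
  rw [e, key]
  apply isClosed_image_of_stableUnderSpecialization_of_isAffine
  · exact hC.preimage (Points.continuous_ofPt a)
  · rintro w' w hsp ⟨u', hu', rfl⟩
    obtain ⟨x, hxC, hx⟩ := exists_mem_of_specializes_of_dvrExist f he a qi h comm C hC u' hu' w hsp
    rw [← key]
    exact ⟨x, hxC, hx⟩

end Groth.Agent.Helper19.DvrVC
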