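import Groth.Agent.Lib.Helper19.DvrVC.Closed

/-!
# Discrete valuation ring diagrams through points in the closure of the image
-/

set_option autoImplicit false
universe u
open CategoryTheory CategoryTheory.Limits AlgebraicGeometry MorphismProperty TopologicalSpace
open AlgSp

namespace Groth.Agent.Helper19.DvrVC
open Groth.Agent.Helper15 Groth.Agent.Helper16.AS Groth.Agent.Helper19.ValCopy
variable {S : Scheme.{u}}

open IsLocalRing

/-- Ring version: a point in the closure of the image of `Spec A → Spec R` is a specialization of a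
point of the image. -/
theorem exists_comap_le_of_mem_closure {R A : Type u} [CommRing R] [CommRing A] (φ : R →+* A)
    (p : PrimeSpectrum R) (hp : p ∈ closure (Set.range (PrimeSpectrum.comap φ))) :
    ∃ q : PrimeSpectrum A, PrimeSpectrum.comap φ q ⤳ p := by
  rw [PrimeSpectrum.closure_range_comap, PrimeSpectrum.mem_zeroLocus] at hp
  obtain ⟨p₀, hp₀, hle⟩ := Ideal.exists_minimalPrimes_le (J := p.asIdeal) hp
  have hp₀' : p₀ ∈ ((⊥ : Ideal A).comap φ).minimalPrimes := hp₀
  obtain ⟨q, hq, -, rfl⟩ := Ideal.exists_comap_eq_of_mem_minimalPrimes φ p₀ hp₀'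
  refine ⟨⟨q, hq⟩, ?_⟩
  rw [← PrimeSpectrum.le_iff_specializes]
  exact hle

/-- Scheme version for affine schemes. -/
theorem exists_specializes_of_mem_closure_range {U W : Scheme.{u}} [IsAffine U] [IsAffine W]
    (h : U ⟶ W) (w : W) (hw : w ∈ closure (Set.range h)) : ∃ u : U, h u ⤳ w := by
  have e : h ≫ W.isoSpec.hom = U.isoSpec.hom ≫ Spec.map h.appTop :=
    (Scheme.isoSpec_hom_naturality h).symm
  have hw' : W.isoSpec.hom w ∈ closure (Set.range (Spec.map h.appTop)) := by
    have h1 : W.isoSpec.hom w ∈ W.isoSpec.hom '' closure (Set.range h) := ⟨w, hw, rfl⟩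
    have h2 := image_closure_subset_closure_image (f := W.isoSpec.hom)
      (s := Set.range h) W.isoSpec.hom.continuous h1
    refine closure_mono ?_ h2
    rintro _ ⟨_, ⟨u, rfl⟩, rfl⟩
    refine ⟨U.isoSpec.hom u, ?_⟩
    exact (congrArg (fun φ : U ⟶ _ => φ u) e).symm
  obtain ⟨q, hq⟩ := exists_comap_le_of_mem_closure h.appTop.hom (W.isoSpec.hom w) hw'
  refine ⟨U.isoSpec.inv q, ?_⟩
  have h3 : W.isoSpec.hom (h (U.isoSpec.inv q)) = Spec.map h.appTop q := by
    have := congrArg (fun φ : U ⟶ _ => φ (U.isoSpec.inv q)) e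
    simp only [Scheme.Hom.comp_apply] at this
    rw [this]
    congr 1
    rw [← Scheme.Hom.comp_apply, Iso.inv_hom_id]
    rfl
  have h4 : W.isoSpec.hom (h (U.isoSpec.inv q)) ⤳ W.isoSpec.hom w := by
    rw [h3]; exact hq
  have h5 := h4.map W.isoSpec.inv.continuous
  have h6 : ∀ x : W, W.isoSpec.inv (W.isoSpec.hom x) = x := fun x => by
    rw [← Scheme.Hom.comp_apply, Iso.hom_inv_id]
    rfl
  rw [h6, h6] at h5
  exact h5

/-- Assembly of the diagram from chart data. -/
theorem exists_diagram_of_data {X Y : Sp S} (f : X ⟶ Y) {U W : Over S} (aU : (yon S).obj U ⟶ X)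
    (q : (yon S).obj W ⟶ Y) (h : U ⟶ W) (comm : aU ≫ f = (yon S).map h ≫ q) (u : U.left)
    (w : W.left) (A : Type u) [CommRing A] [IsDomain A] [IsDiscreteValuationRing A]
    (hA : Spec (CommRingCat.of A) ⟶ W.left) (θ : U.left.residueField u →+* FractionRing A)
    (hcl : hA (closedPoint A) = w)
    (hcomp : Spec.map (CommRingCat.ofHom (algebraMap A (FractionRing A))) ≫ hA =
      Spec.map (CommRingCat.ofHom θ) ≫ U.left.fromSpecResidueField u ≫ h.left) :
    ∃ (a : Spec (CommRingCat.of A) ⟶ S)
      (α : (yon S).obj (Over.mk a) ⟶ Y)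
      (κ : (yon S).obj (Over.mk
        (Spec.map (CommRingCat.ofHom (algebraMap A (FractionRing A))) ≫ a)) ⟶ X),
      κ ≫ f = (yon S).map (Over.homMk
        (Spec.map (CommRingCat.ofHom (algebraMap A (FractionRing A))))) ≫ α ∧
      Points.map α (Points.schemeEquiv (Over.mk a) (closedPoint A)) = Points.ofPt q w := by
  let a : Spec (.of A) ⟶ S := hA ≫ W.hom
  let β : Over.mk a ⟶ W := Over.homMk hA rfl
  have hρ : (Spec.map (CommRingCat.ofHom θ) ≫ U.left.fromSpecResidueField u) ≫ U.hom =
      Spec.map (CommRingCat.ofHom (algebraMap A (FractionRing A))) ≫ a := by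
    rw [← Over.w h, ← Category.assoc, Category.assoc (Spec.map (CommRingCat.ofHom θ)), ← hcomp]
    simp only [a, Category.assoc]
  let ρ : Over.mk (Spec.map (CommRingCat.ofHom (algebraMap A (FractionRing A))) ≫ a) ⟶ U :=
    Over.homMk (Spec.map (CommRingCat.ofHom θ) ≫ U.left.fromSpecResidueField u) hρ
  let jj : Over.mk (Spec.map (CommRingCat.ofHom (algebraMap A (FractionRing A))) ≫ a) ⟶
      Over.mk a := Over.homMk (Spec.map (CommRingCat.ofHom (algebraMap A (FractionRing A)))) rfl
  have hρh : ρ ≫ h = jj ≫ β := by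
    ext
    change (Spec.map (CommRingCat.ofHom θ) ≫ U.left.fromSpecResidueField u) ≫ h.left =
      Spec.map (CommRingCat.ofHom (algebraMap A (FractionRing A))) ≫ hA
    rw [hcomp, Category.assoc]
  refine ⟨a, (yon S).map β ≫ q, (yon S).map ρ ≫ aU, ?_, ?_⟩
  · calc ((yon S).map ρ ≫ aU) ≫ f = (yon S).map ρ ≫ (yon S).map h ≫ q := by
          rw [Category.assoc, comm]
      _ = (yon S).map (ρ ≫ h) ≫ q := by rw [Functor.map_comp, Category.assoc]
      _ = (yon S).map (jj ≫ β) ≫ q := by rw [hρh]
      _ = (yon S).map jj ≫ (yon S).map β ≫ q := by rw [Functor.map_comp, Category.assoc]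
  · change Points.map ((yon S).map β ≫ q) (Points.ofScheme (Over.mk a) (closedPoint A)) = _
    rw [← Points.ofPt_eq_map_ofScheme, ofPt_comp_yon_map]
    congr 1

set_option maxHeartbeats 800000 in
/-- A point in the closure of the image of a finite type morphism to a locally Noetherian algebraic
space is the image of the closed point of a discrete valuation ring whose generic point lifts. -/
theorem exists_dvr_diagram {X Y : Sp S} (hX : IsAlgSpace X) (hY : IsAlgSpace Y) (f : X ⟶ Y)
    (hft : IsFiniteTypeMor f) (hYn : IsLocNoethSp Y) (y : Points Y)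
    (hy : y ∈ closure (Set.range (Points.map f))) :
    ∃ (A : Type u) (_ : CommRing A) (_ : IsDomain A) (_ : IsDiscreteValuationRing A)
      (a : Spec (CommRingCat.of A) ⟶ S)
      (α : (yon S).obj (Over.mk a) ⟶ Y)
      (κ : (yon S).obj (Over.mk
        (Spec.map (CommRingCat.ofHom (algebraMap A (FractionRing A))) ≫ a)) ⟶ X),
      κ ≫ f = (yon S).map (Over.homMk
        (Spec.map (CommRingCat.ofHom (algebraMap A (FractionRing A))))) ≫ α ∧
      Points.map α (Points.schemeEquiv (Over.mk a) (closedPoint A)) = y := by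
  obtain ⟨hlft, hq⟩ := hft
  obtain ⟨W, q, hqe, hqs⟩ := hY.atlas
  haveI : IsLocallyNoetherian W.left := isLocallyNoetherian_of_etale_of_isLocNoethSp hYn q hqe
  obtain ⟨w₀, rfl⟩ := surjective_ofPt q hqs y
  obtain ⟨i, wi, hwi⟩ := W.left.affineCover.exists_eq w₀
  let Wi : Over S := Over.mk (W.left.affineCover.f i ≫ W.hom)
  let ιi : Wi ⟶ W := Over.homMk (W.left.affineCover.f i) rfl
  haveI hWi : IsAffine Wi.left := by
    change IsAffine (W.left.affineCover.X i); infer_instance
  haveI hWin : IsLocallyNoetherian Wi.left := by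
    change IsLocallyNoetherian (W.left.affineCover.X i)
    exact isLocallyNoetherian_of_isOpenImmersion (W.left.affineCover.f i)
  let qi : (yon S).obj Wi ⟶ Y := (yon S).map ιi ≫ q
  have hqie : RepWith @Etale qi := by
    refine (RepWith @Etale).comp_mem _ _ ((repWith_yon_map_iff _ ιi).2 ?_) hqe
    change Etale (W.left.affineCover.f i)
    infer_instance
  have hyi : Points.ofPt q w₀ = Points.ofPt qi wi := by
    rw [ofPt_comp_yon_map]
    congr 1
    exact hwi.symm
  have pb : IsPullback (pullback.fst f qi) (pullback.snd f qi) f qi := IsPullback.of_hasPullback _ _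
  have hP : IsAlgSpace (pullback f qi) :=
    isAlgSpace_of_isPullback hY.diag hX (IsAlgSpace.yon_obj Wi) pb
  have hPq : IsQuasiCompactSp (pullback f qi) :=
    hq (IsAlgSpace.yon_obj Wi) ((isQuasiCompactSp_yon_iff Wi).2 inferInstance) qi _ _ pb
  obtain ⟨U, p, hU, hpe, hps⟩ := exists_affine_chart_of_isQuasiCompactSp hPq
  haveI := hU
  obtain ⟨h, hh⟩ := (yon S).map_surjective (p ≫ pullback.snd f qi)
  let a : (yon S).obj U ⟶ X := p ≫ pullback.fst f qi
  have hae : RepWith @Etale a :=
    (RepWith @Etale).comp_mem _ _ hpe ((RepWith @Etale).of_isPullback pb.flip hqie)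
  have comm : a ≫ f = (yon S).map h ≫ qi := by
    rw [hh, Category.assoc, Category.assoc, pb.w]
  haveI : LocallyOfFiniteType h.left := hlft a qi h hae hqie comm
  -- `wi` lies in the closure of the image of `h`
  have hcl : wi ∈ closure (Set.range h.left) := by
    rw [mem_closure_iff]
    intro O hO hwO
    have hopen : IsOpen (Points.ofPt qi '' O) := isOpenMap_ofPt_of_etale qi hqie O hO
    have hmem : Points.ofPt q w₀ ∈ Points.ofPt qi '' O := ⟨wi, hwO, hyi.symm⟩
    obtain ⟨_, ⟨w', hw'O, rfl⟩, ⟨x, hx⟩⟩ := mem_closure_iff.1 hy _ hopen hmem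
    rw [Points.ofPt_eq_map_ofScheme qi w'] at hx
    obtain ⟨p', hp1, hp2⟩ := exists_point_of_isPullback pb x _ hx
    obtain ⟨u, rfl⟩ := surjective_ofPt p hps p'
    rw [Points.map_ofPt] at hp2
    rw [← hh, Groth.Agent.Helper15.ofPt_yon_map] at hp2
    have h1 : h.left u = w' := (Points.schemeEquiv Wi).injective hp2
    exact ⟨w', hw'O, ⟨u, h1⟩⟩
  obtain ⟨u, hu⟩ := exists_specializes_of_mem_closure_range h.left wi hcl
  rw [hyi]
  by_cases hne : wi = h.left u
  · -- power series over the residue field
    let k := U.left.residueField u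
    let A := PowerSeries k
    let hA : Spec (CommRingCat.of A) ⟶ Wi.left :=
      Spec.map (CommRingCat.ofHom (PowerSeries.C : k →+* A)) ≫ U.left.fromSpecResidueField u ≫ h.left
    let θ : k →+* FractionRing A := (algebraMap A (FractionRing A)).comp PowerSeries.C
    have hclA : hA (closedPoint A) = wi := by
      change (Spec.map (CommRingCat.ofHom (PowerSeries.C : k →+* A)) ≫
        U.left.fromSpecResidueField u ≫ h.left) (closedPoint A) = wi
      rw [Scheme.Hom.comp_apply, Scheme.Hom.comp_apply, Scheme.fromSpecResidueField_apply, hne]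
    have hcompA : Spec.map (CommRingCat.ofHom (algebraMap A (FractionRing A))) ≫ hA =
        Spec.map (CommRingCat.ofHom θ) ≫ U.left.fromSpecResidueField u ≫ h.left := by
      change Spec.map _ ≫ Spec.map _ ≫ _ = _
      rw [← Category.assoc, ← Spec.map_comp]
      rfl
    obtain ⟨a', α, κ, h1, h2⟩ := exists_diagram_of_data f a qi h comm u wi A hA θ hclA hcompA
    exact ⟨A, inferInstance, inferInstance, inferInstance, a', α, κ, h1, h2⟩
  · obtain ⟨A, hA, hdvr, hclA, hcompA⟩ := Groth.Agent.S4450.result h.left u wi hu hne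
    haveI := hdvr
    let L := U.left.residueField u
    let e : FractionRing A ≃ₐ[A] L := FractionRing.algEquiv A L
    let θ : L →+* FractionRing A := (e.symm : L →+* FractionRing A)
    have hθ : θ.comp (algebraMap A L) = algebraMap A (FractionRing A) := by
      ext x
      exact e.symm.commutes x
    have hcompA' : Spec.map (CommRingCat.ofHom (algebraMap A (FractionRing A))) ≫ hA =
        Spec.map (CommRingCat.ofHom θ) ≫ U.left.fromSpecResidueField u ≫ h.left := by
      rw [← hcompA, ← Category.assoc, ← Spec.map_comp, ← hθ]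
      rfl
    obtain ⟨a', α, κ, h1, h2⟩ := exists_diagram_of_data f a qi h comm u wi A hA θ hclA hcompA'
    exact ⟨A, inferInstance, inferInstance, inferInstance, a', α, κ, h1, h2⟩

end Groth.Agent.Helper19.DvrVC
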