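import Groth.Agent.Lib.Helper15.ValFinSep
import Groth.Agent.Lib.Helper16.AlgSp.LftSp
import Groth.Agent.S4450

/-!
# Lifts after finite separable extensions by discrete valuation rings
(variants of helper15's `ValFinSep` lemmas in which the dominating valuation ring is a discrete
valuation ring; the valuation ring is produced by S4450 instead of Zorn's lemma)
-/

set_option autoImplicit false
universe u
open CategoryTheory CategoryTheory.Limits AlgebraicGeometry Opposite MorphismProperty
open AlgSp IsLocalRing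

namespace Groth.Agent.Helper19.DvrVC

open Groth.Agent.Helper15 Groth.Agent.Helper15.ValLift Groth.Agent.Helper15.ValExist
  Groth.Agent.Helper15.ValFinSep

variable {S : Scheme.{u}}

/-- For a discrete valuation ring, the inclusion of the generic point is an open immersion. -/
theorem isOpenImmersion_specMap_of_dvr (R K : Type u) [CommRing R] [IsDomain R]
    [IsDiscreteValuationRing R] [Field K] [Algebra R K] [IsFractionRing R K] :
    IsOpenImmersion (Spec.map (CommRingCat.ofHom (algebraMap R K))) := by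
  obtain ⟨ϖ, hϖ⟩ := IsDiscreteValuationRing.exists_irreducible R
  haveI : IsLocalization.Away ϖ K := by
    refine (IsLocalization.iff_of_le_of_exists_dvd (Submonoid.powers ϖ) (nonZeroDivisors R)
      ?_ ?_).2 inferInstance
    · rintro _ ⟨n, rfl⟩
      exact pow_mem (mem_nonZeroDivisors_of_ne_zero hϖ.ne_zero) n
    · intro r hr
      have hr0 : r ≠ 0 := nonZeroDivisors.ne_zero hr
      obtain ⟨n, u, rfl⟩ := IsDiscreteValuationRing.eq_unit_mul_pow_irreducible hr0 hϖ
      exact ⟨ϖ ^ n, ⟨n, rfl⟩, Dvd.intro_left (↑u⁻¹) (by rw [← mul_assoc, Units.inv_mul, one_mul])⟩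
  exact IsOpenImmersion.of_isLocalization ϖ

/-- **Tail lemma.** Given an affine etale chart of the base change to the valuation ring, and a
specialization `u ⤳ u'` in it with `u` over the given `K`-point and `u'` over the closed point, there
is a finite separable dominating extension over which the square has a lift. -/
theorem exists_finSep_dvr_domExt {X Y : Sp S} (f : X ⟶ Y) (sq : ValSq f)
    (hdvr : IsDiscreteValuationRing sq.A)
    (U : Over S) [IsLocallyNoetherian U.left] (a : (yon S).obj U ⟶ pullback f sq.bot) (hae : RepWith @Etale a)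
    (σ : (yon S).obj sq.ptK ⟶ pullback f sq.bot)
    (hσ1 : σ ≫ pullback.fst f sq.bot = sq.top)
    (hσ2 : σ ≫ pullback.snd f sq.bot = (yon S).map sq.j)
    (g : U ⟶ sq.ptA) (hg : (yon S).map g = a ≫ pullback.snd f sq.bot)
    (u u' : U.left) (huu' : u ⤳ u')
    (huK : Points.ofPt a u = Points.ofPt σ (closedPoint sq.K))
    (hgu' : g.left u' = closedPoint sq.A) :
    ∃ e : sq.DomExt, IsDiscreteValuationRing e.A' ∧ (letI := e.ψ.toAlgebra
      Module.Finite sq.K e.K' ∧ Algebra.IsSeparable sq.K e.K') ∧ e.HasLift := by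
  have pb : IsPullback (pullback.fst f sq.bot) (pullback.snd f sq.bot) f sq.bot :=
    IsPullback.of_hasPullback _ _
  let ptK : sq.ptK.left := closedPoint sq.K
  -- the point of the fibre product
  obtain ⟨W, pW, qW, sqW⟩ : ∃ (W : Over S) (pW : W ⟶ U) (qW : W ⟶ sq.ptK),
      IsPullback ((yon S).map pW) ((yon S).map qW) a σ := ⟨_, _, _, hae.rep.isPullback' σ⟩
  have hqW : Etale qW.left := hae.property σ _ _ sqW
  obtain ⟨w, hw1, -⟩ := exists_of_ofPt_eq sqW u ptK huK
  subst hw1
  have hWcomm0 : pW ≫ g = qW ≫ sq.j := by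
    apply (yon S).map_injective
    rw [Functor.map_comp, Functor.map_comp, hg, ← hσ2, ← Category.assoc, ← Category.assoc, sqW.w]
  -- the valuation ring
  have hne : u' ≠ pW.left w := by
    intro heq
    have h1 : g.left u' = sq.j.left (qW.left w) := by
      rw [heq, ← Scheme.Hom.comp_apply, ← Scheme.Hom.comp_apply, ← Over.comp_left,
        ← Over.comp_left, hWcomm0]
    rw [hgu'] at h1
    have h2 : sq.j.left (qW.left w) = ValLift.genPt sq.A :=
      ValLift.specMap_eq_genPt _ (IsFractionRing.injective sq.A sq.K) _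
    rw [h2] at h1
    have h3 := congrArg PrimeSpectrum.asIdeal h1
    have h4 : IsLocalRing.maximalIdeal sq.A = ⊥ := h3
    exact IsDiscreteValuationRing.not_isField sq.A (IsLocalRing.isField_iff_maximalIdeal_eq.2 h4)
  haveI : IsOpenImmersion sq.j.left := by
    haveI := hdvr
    exact isOpenImmersion_specMap_of_dvr sq.A sq.K
  haveI : LocallyOfFiniteType (pW.left ≫ g.left) := by
    rw [← Over.comp_left, hWcomm0, Over.comp_left]
    infer_instance
  haveI : LocallyOfFiniteType pW.left := locallyOfFiniteType_of_comp pW.left g.left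
  obtain ⟨A', β, hA'dvr, hβ1, hβ2'⟩ := Groth.Agent.S4450.result pW.left w u' huu' hne
  have hβ2 : Spec.map (CommRingCat.ofHom (algebraMap A' (W.left.residueField w))) ≫ β =
      W.left.fromSpecResidueField w ≫ pW.left := hβ2'
  let φA : sq.A →+* A' :=
    (Spec.preimage (β ≫ g.left : Spec (.of A') ⟶ Spec (.of sq.A))).hom
  have hφA : Spec.map (CommRingCat.ofHom φA) = β ≫ g.left := Spec.map_preimage _
  let ψ : sq.K →+* W.left.residueField w :=
    (Spec.preimage (W.left.fromSpecResidueField w ≫ qW.left :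
      Spec (.of (W.left.residueField w)) ⟶ Spec (.of sq.K))).hom
  have hψ : Spec.map (CommRingCat.ofHom ψ) = W.left.fromSpecResidueField w ≫ qW.left :=
    Spec.map_preimage _
  -- compatibility of the two projections of `W` over `Spec A`
  have hWcomm : pW ≫ g = qW ≫ sq.j := by
    apply (yon S).map_injective
    rw [Functor.map_comp, Functor.map_comp, hg, ← hσ2, ← Category.assoc, ← Category.assoc, sqW.w]
  have hWcomm' : pW.left ≫ g.left = qW.left ≫ sq.j.left := by
    rw [← Over.comp_left, ← Over.comp_left, hWcomm]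
  have hcomm : (algebraMap A' (W.left.residueField w)).comp φA =
      ψ.comp (algebraMap sq.A sq.K) := by
    have h1 : CommRingCat.ofHom ((algebraMap A' (W.left.residueField w)).comp φA) =
        CommRingCat.ofHom (ψ.comp (algebraMap sq.A sq.K)) := by
      apply Spec.map_injective
      have e1 : CommRingCat.ofHom ((algebraMap A' (W.left.residueField w)).comp φA) =
          CommRingCat.ofHom φA ≫ CommRingCat.ofHom (algebraMap A' (W.left.residueField w)) := rfl
      have e2 : CommRingCat.ofHom (ψ.comp (algebraMap sq.A sq.K)) =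
          CommRingCat.ofHom (algebraMap sq.A sq.K) ≫ CommRingCat.ofHom ψ := rfl
      rw [e1, e2, Spec.map_comp, Spec.map_comp, hφA, hψ,
        ← Category.assoc, hβ2, Category.assoc, hWcomm', Category.assoc]
      rfl
    exact congrArg CommRingCat.Hom.hom h1
  have hloc : IsLocalHom φA := by
    apply isLocalHom_of_specMap_closedPoint
    rw [hφA, Scheme.Hom.comp_apply, hβ1, hgu']
  let e : sq.DomExt :=
    { A' := A', K' := W.left.residueField w, φ := φA, ψ := ψ, comm := hcomm, isLocalHom := hloc }
  refine ⟨e, hA'dvr, ?_, ?_⟩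
  · haveI := hqW
    exact finite_separable_residueField_of_etale_over_field (K := sq.K) qW.left w ψ hψ
  -- the lift
  have hwβ : β ≫ U.hom = Spec.map (CommRingCat.ofHom φA) ≫ sq.str := by
    rw [← Over.w g, ← Category.assoc, hφA]
    rfl
  let β' : e.ptA' ⟶ U := Over.homMk β hwβ
  have hβ'g : β' ≫ g = (Over.homMk (Spec.map (CommRingCat.ofHom e.φ)) rfl : e.ptA' ⟶ sq.ptA) := by
    ext
    exact hφA.symm
  -- the point `Spec K' ⟶ W`
  have hwρ : W.left.fromSpecResidueField w ≫ W.hom = e.ptK'.hom := by
    change _ = Spec.map (CommRingCat.ofHom (algebraMap A' (W.left.residueField w))) ≫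
      Spec.map (CommRingCat.ofHom φA) ≫ sq.str
    rw [← Over.w pW, ← Category.assoc, ← hβ2, Category.assoc, hwβ]
  let ρ : e.ptK' ⟶ W := Over.homMk (W.left.fromSpecResidueField w) hwρ
  have hρ1 : (Over.homMk (Spec.map (CommRingCat.ofHom (algebraMap e.A' e.K'))) rfl :
      e.ptK' ⟶ e.ptA') ≫ β' = ρ ≫ pW := by
    ext
    exact hβ2
  have hρ2 : ∀ (pf : Spec.map (CommRingCat.ofHom e.ψ) ≫ sq.ptK.hom = e.ptK'.hom),
      ρ ≫ qW = (Over.homMk (Spec.map (CommRingCat.ofHom e.ψ)) pf : e.ptK' ⟶ sq.ptK) := by
    intro pf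
    ext
    exact hψ.symm
  refine ⟨(yon S).map β' ≫ a ≫ pullback.fst f sq.bot, ?_, ?_⟩
  · rw [← Category.assoc, ← Functor.map_comp, hρ1, Functor.map_comp, Category.assoc,
      ← Category.assoc ((yon S).map pW), sqW.w, Category.assoc, hσ1, ← Category.assoc,
      ← Functor.map_comp, hρ2]
  · rw [Category.assoc, Category.assoc, pb.w, ← Category.assoc a, ← hg, ← Category.assoc,
      ← Functor.map_comp, hβ'g]

/-- If a valuative square of a morphism of algebraic spaces has a lift after some dominating
extension, then it has one after a finite separable one. -/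
theorem exists_finSep_dvr_of_hasLiftExt {X Y : Sp S} (hX : IsAlgSpace X) (hY : IsAlgSpace Y)
    (f : X ⟶ Y) (hlft : LocP @LocallyOfFiniteType f) (sq : ValSq f)
    (hdvr : IsDiscreteValuationRing sq.A) (h : sq.HasLiftExt) :
    ∃ e : sq.DomExt, IsDiscreteValuationRing e.A' ∧ (letI := e.ψ.toAlgebra
      Module.Finite sq.K e.K' ∧ Algebra.IsSeparable sq.K e.K') ∧ e.HasLift := by
  obtain ⟨e₀, l, hl1, hl2⟩ := h
  have pb : IsPullback (pullback.fst f sq.bot) (pullback.snd f sq.bot) f sq.bot :=
    IsPullback.of_hasPullback _ _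
  have hP : IsAlgSpace (pullback f sq.bot) :=
    isAlgSpace_of_isPullback hY.diag hX (IsAlgSpace.yon_obj _) pb
  let σ : (yon S).obj sq.ptK ⟶ pullback f sq.bot := pb.lift sq.top ((yon S).map sq.j) sq.comm
  have hσ1 : σ ≫ pullback.fst f sq.bot = sq.top := pb.lift_fst _ _ _
  have hσ2 : σ ≫ pullback.snd f sq.bot = (yon S).map sq.j := pb.lift_snd _ _ _
  -- the `A'`-point of the base change
  let φ' : e₀.ptA' ⟶ sq.ptA := Over.homMk (Spec.map (CommRingCat.ofHom e₀.φ)) rfl
  let lam : (yon S).obj e₀.ptA' ⟶ pullback f sq.bot := pb.lift l ((yon S).map φ') hl2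
  have hlam1 : lam ≫ pullback.fst f sq.bot = l := pb.lift_fst _ _ _
  have hlam2 : lam ≫ pullback.snd f sq.bot = (yon S).map φ' := pb.lift_snd _ _ _
  let jK' : e₀.ptK' ⟶ e₀.ptA' :=
    Over.homMk (Spec.map (CommRingCat.ofHom (algebraMap e₀.A' e₀.K'))) rfl
  have hSpec : Spec.map (CommRingCat.ofHom (algebraMap e₀.A' e₀.K')) ≫
      Spec.map (CommRingCat.ofHom e₀.φ) =
      Spec.map (CommRingCat.ofHom e₀.ψ) ≫ Spec.map (CommRingCat.ofHom (algebraMap sq.A sq.K)) := by
    rw [← Spec.map_comp, ← Spec.map_comp, ← CommRingCat.ofHom_comp, ← CommRingCat.ofHom_comp,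
      e₀.comm]
  have hwψ : Spec.map (CommRingCat.ofHom e₀.ψ) ≫ sq.ptK.hom = e₀.ptK'.hom := by
    change Spec.map _ ≫ Spec.map _ ≫ _ = Spec.map _ ≫ Spec.map _ ≫ _
    rw [← Category.assoc, ← hSpec, Category.assoc]
  let ψ' : e₀.ptK' ⟶ sq.ptK := Over.homMk (Spec.map (CommRingCat.ofHom e₀.ψ)) hwψ
  have hjψ : jK' ≫ φ' = ψ' ≫ sq.j := by
    ext
    exact hSpec
  have hlamK : (yon S).map jK' ≫ lam = (yon S).map ψ' ≫ σ := by
    apply pb.hom_ext
    · rw [Category.assoc, hlam1, Category.assoc, hσ1]
      exact hl1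
    · rw [Category.assoc, hlam2, Category.assoc, hσ2, ← Functor.map_comp, ← Functor.map_comp,
        hjψ]
  -- the image of the closed point and a chart through it
  obtain ⟨U, hU, a, u', hae, hu'⟩ := exists_affine_etale_nbhd hP
    (Points.ofPt lam (closedPoint e₀.A'))
  obtain ⟨g, hg⟩ := (yon S).map_surjective (a ≫ pullback.snd f sq.bot)
  haveI hlocφ : IsLocalHom e₀.φ := e₀.isLocalHom
  have hgu' : g.left u' = closedPoint sq.A := by
    have h1 : Points.ofPt ((yon S).map g) u' = Points.ofScheme sq.ptA (closedPoint sq.A) := by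
      rw [hg, ← Points.map_ofPt, hu', Points.map_ofPt, hlam2, ofPt_yon_map]
      congr 1
      exact comap_closedPoint e₀.φ
    have h2 := congrArg (Points.toScheme sq.ptA) h1
    rw [Points.toScheme_ofPt] at h2
    rw [h2]
    exact (Points.schemeEquiv sq.ptA).left_inv _
  -- the fibre product of the chart with `Spec A'`
  obtain ⟨V, pV, qV, sqV⟩ : ∃ (V : Over S) (pV : V ⟶ U) (qV : V ⟶ e₀.ptA'),
      IsPullback ((yon S).map pV) ((yon S).map qV) a lam := ⟨_, _, _, hae.rep.isPullback' lam⟩
  haveI hqV : Etale qV.left := hae.property lam _ _ sqV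
  obtain ⟨v', hv'1, hv'2⟩ := exists_of_ofPt_eq sqV u' (closedPoint e₀.A') hu'
  -- a generalization of `v'` over the generic point
  have hgen : GeneralizingMap qV.left := Flat.generalizingMap qV.left
  have hsp : genPt e₀.A' ⤳ qV.left v' := by
    rw [hv'2]
    exact genPt_specializes e₀.A' _
  obtain ⟨v, hv1, hv2⟩ := hgen hsp
  have huu' : pV.left v ⤳ u' := by
    rw [← hv'1]
    exact hv1.map pV.left.continuous
  have huK : Points.ofPt a (pV.left v) = Points.ofPt σ (closedPoint sq.K) := by
    rw [← ofPt_comp_yon_map, sqV.w, ofPt_comp_yon_map, hv2]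
    have h3 : genPt e₀.A' = jK'.left (closedPoint e₀.K') :=
      (specMap_eq_genPt _ (IsFractionRing.injective e₀.A' e₀.K') _).symm
    rw [h3, ← ofPt_comp_yon_map, hlamK, ofPt_comp_yon_map]
    congr 1
    exact @Subsingleton.elim (Spec (CommRingCat.of sq.K)) inferInstance _ _
  haveI : IsLocallyNoetherian U.left := by
    have hsnd : LocP @LocallyOfFiniteType (pullback.snd f sq.bot) :=
      Groth.Agent.Helper16.AS.locP_of_isPullback goodP_lft
        Groth.Agent.Helper16.AS.srcEtLoc_lft hX hY (IsAlgSpace.yon_obj _) pb hlft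
    haveI : LocallyOfFiniteType g.left :=
      hsnd a (𝟙 _) g hae (repWith_id @Etale _) (by rw [Category.comp_id, hg])
    haveI : IsNoetherianRing sq.A := by
      haveI := hdvr
      infer_instance
    haveI : IsLocallyNoetherian sq.ptA.left :=
      (inferInstance : IsLocallyNoetherian (Spec (CommRingCat.of sq.A)))
    exact LocallyOfFiniteType.isLocallyNoetherian g.left
  exact exists_finSep_dvr_domExt f sq hdvr U a hae σ hσ1 hσ2 g hg (pV.left v) u' huu' huK hgu'

end Groth.Agent.Helper19.DvrVC
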