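import Groth.Agent.Lib.Helper19.FpqcSep.ValCopy
import Groth.Agent.Lib.Helper15.AlgSpNoeth
import Groth.Agent.Lib.Helper15.AlgSpLocP2
import Groth.Agent.Lib.Helper15.AlgSpBasic
import Groth.Agent.Lib.Helper15.AlgSpDiagMor
import Groth.Agent.Lib.Helper15.AlgSpDescent
import Groth.Agent.Lib.Helper16.AlgSp.LftSp
import Groth.Agent.S9213

/-!
# Noetherian (discrete valuation ring) valuative criterion of separatedness for algebraic spaces
-/

set_option autoImplicit false
universe u
open CategoryTheory CategoryTheory.Limits AlgebraicGeometry MorphismProperty TopologicalSpace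
open AlgSp

namespace Groth.Agent.Helper19.DvrVC
open Groth.Agent.Helper15 Groth.Agent.Helper16.AS
variable {S : Scheme.{u}}

/-- A quasi-separated morphism locally of finite type to a locally Noetherian algebraic space which
satisfies the uniqueness part of the valuative criterion for discrete valuation rings is
separated. -/
theorem isSeparatedMor_of_dvr_uniq {X Y : Sp S} (hX : IsAlgSpace X) (hY : IsAlgSpace Y) (f : X ⟶ Y)
    (hqs : IsQuasiSeparatedMor f) (hft : LocP @LocallyOfFiniteType f) (hYn : IsLocNoethSp Y)
    (hu : ∀ sq : ValSq f, IsDiscreteValuationRing sq.A → sq.HasUniq) : IsSeparatedMor f := by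
  obtain ⟨hrep, hlft, hmono, -, -⟩ := diagonal_properties hX f
  have pbP : IsPullback (pullback.fst f f) (pullback.snd f f) f f := IsPullback.of_hasPullback _ _
  have hP : IsAlgSpace (pullback f f) := isAlgSpace_of_isPullback hY.diag hX hX pbP
  have hPn : IsLocNoethSp (pullback f f) := by
    have h1 : LocP @LocallyOfFiniteType (pullback.fst f f) := locP_of_isPullback goodP_lft srcEtLoc_lft hX hY hX pbP.flip hft
    exact isLocNoethSp_of_locP_lft hP (pullback.fst f f ≫ f) (locP_comp goodP_lft srcEtLoc_lft hP hX hY _ _ h1 hft) hYn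
  obtain ⟨W, b, hbe, hbs⟩ := hP.atlas
  haveI : IsLocallyNoetherian W.left := isLocallyNoetherian_of_etale_of_isLocNoethSp hPn b hbe
  have hpb := hrep.isPullback b
  set T := hrep.pullback b
  set snd := hrep.snd b
  set fstW := hrep.fst b
  refine (repWith_iff_of_chart (pullback.diagonal f) hrep b hbe hbs fstW snd hpb
    @IsClosedImmersion).2 ?_
  haveI : QuasiCompact snd.left := hqs.2 b fstW snd hpb
  haveI : LocallyOfFiniteType snd.left := hlft.2 b fstW snd hpb
  haveI : Mono snd.left := hmono.2 b fstW snd hpb
  rw [IsClosedImmersion.iff_isProper_and_mono]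
  refine ⟨?_, inferInstance⟩
  suffices h : UniversallyClosed snd.left by exact {}
  rw [Groth.Agent.S9213.result snd.left]
  intro A _ _ _ x y hxy
  let K := FractionRing A
  let strR : Spec (.of A) ⟶ S := y ≫ W.hom
  let iR : Over.mk strR ⟶ W := Over.homMk y rfl
  have hiK : x ≫ T.hom = Spec.map (CommRingCat.ofHom (algebraMap A K)) ≫ strR := by
    rw [← Over.w snd, ← Category.assoc, hxy, Category.assoc]
  let iK : Over.mk (Spec.map (CommRingCat.ofHom (algebraMap A K)) ≫ strR) ⟶ T :=
    Over.homMk x hiK
  let jj : Over.mk (Spec.map (CommRingCat.ofHom (algebraMap A K)) ≫ strR) ⟶ Over.mk strR :=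
    Over.homMk (Spec.map (CommRingCat.ofHom (algebraMap A K))) rfl
  have hjj : iK ≫ snd = jj ≫ iR := by
    ext
    exact hxy
  let a1 : (yon S).obj (Over.mk strR) ⟶ X := ((yon S).map iR ≫ b) ≫ pullback.fst f f
  let a2 : (yon S).obj (Over.mk strR) ⟶ X := ((yon S).map iR ≫ b) ≫ pullback.snd f f
  have hkey1 : (yon S).map jj ≫ a1 = (yon S).map iK ≫ fstW := by
    have : fstW = (yon S).map snd ≫ b ≫ pullback.fst f f := by
      rw [← Category.assoc, ← hpb.w, Category.assoc, pullback.diagonal_fst, Category.comp_id]
    calc (yon S).map jj ≫ a1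
        = ((yon S).map jj ≫ (yon S).map iR) ≫ b ≫ pullback.fst f f := by
          simp only [a1, Category.assoc]
      _ = ((yon S).map iK ≫ (yon S).map snd) ≫ b ≫ pullback.fst f f := by
          rw [← Functor.map_comp, ← hjj, Functor.map_comp]
      _ = (yon S).map iK ≫ fstW := by rw [this, Category.assoc]
  have hkey2 : (yon S).map jj ≫ a2 = (yon S).map iK ≫ fstW := by
    have : fstW = (yon S).map snd ≫ b ≫ pullback.snd f f := by
      rw [← Category.assoc, ← hpb.w, Category.assoc, pullback.diagonal_snd, Category.comp_id]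
    calc (yon S).map jj ≫ a2
        = ((yon S).map jj ≫ (yon S).map iR) ≫ b ≫ pullback.snd f f := by
          simp only [a2, Category.assoc]
      _ = ((yon S).map iK ≫ (yon S).map snd) ≫ b ≫ pullback.snd f f := by
          rw [← Functor.map_comp, ← hjj, Functor.map_comp]
      _ = (yon S).map iK ≫ fstW := by rw [this, Category.assoc]
  let sqv : ValSq f :=
    { A := A, K := K, str := strR, top := (yon S).map iK ≫ fstW, bot := a1 ≫ f
      comm := by rw [← hkey1, Category.assoc] }
  have hdvr : IsDiscreteValuationRing sqv.A := ‹IsDiscreteValuationRing A›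
  have h12 : a1 = a2 := hu sqv hdvr a1 a2 hkey1 rfl hkey2 (by
    change a2 ≫ f = a1 ≫ f
    simp only [a1, a2, Category.assoc, pullback.condition])
  have hb : a1 ≫ pullback.diagonal f = (yon S).map iR ≫ b := by
    apply pullback.hom_ext
    · rw [Category.assoc, pullback.diagonal_fst, Category.comp_id]
    · rw [Category.assoc, pullback.diagonal_snd, Category.comp_id, h12]
  obtain ⟨m, hm⟩ := (yon S).map_surjective (hpb.lift a1 ((yon S).map iR) hb)
  have hm2 : m ≫ snd = iR := (yon S).map_injective (by rw [Functor.map_comp, hm, hpb.lift_snd])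
  have hm3 : m.left ≫ snd.left = y := by rw [← Over.comp_left, hm2]; rfl
  refine ⟨m.left, hm3, ?_⟩
  rw [← cancel_mono snd.left, Category.assoc, hm3, hxy]

end Groth.Agent.Helper19.DvrVC
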