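import Groth.Agent.Lib.Helper19.DvrVC.Closed
import Groth.Agent.Lib.Helper16.AlgSp.ProperSp
import Groth.Agent.Lib.Helper15.AlgSpLocal
import Groth.Agent.S9209

/-!
# Refined Noetherian valuative criterion of separatedness (through a dense finite type source)
-/

set_option autoImplicit false
universe u
open CategoryTheory CategoryTheory.Limits AlgebraicGeometry MorphismProperty TopologicalSpace
open AlgSp

namespace Groth.Agent.Helper19.DvrVC
open Groth.Agent.Helper15 Groth.Agent.Helper16.AS Groth.Agent.Helper19.ValCopy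
variable {S : Scheme.{u}}

/-- Dense finite type chart: for `h : U ⟶ X` of finite type with dense image and an étale
`c : h_T ⟶ X` from a quasi-compact scheme `T`, there is an affine scheme `U'` with an étale map to
`U` and a morphism `h' : U' ⟶ T` locally of finite type with dense image, lying over `h`. -/
theorem exists_dense_chart {U X : Sp S} (hU : IsAlgSpace U) (hX : IsAlgSpace X) (h : U ⟶ X)
    (hh : IsFiniteTypeMor h) (hdense : Dense (Set.range (Points.map h)))
    (T : Over S) [CompactSpace T.left] (c : (yon S).obj T ⟶ X) (hc : RepWith @Etale c) :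
    ∃ (U' : Over S) (a' : (yon S).obj U' ⟶ U) (h' : U' ⟶ T), IsAffine U'.left ∧
      RepWith @Etale a' ∧ a' ≫ h = (yon S).map h' ≫ c ∧ LocallyOfFiniteType h'.left ∧
      DenseRange h'.left := by
  have pbU : IsPullback (pullback.fst h c) (pullback.snd h c) h c := IsPullback.of_hasPullback _ _
  have hUT : IsAlgSpace (pullback h c) :=
    isAlgSpace_of_isPullback hX.diag hU (IsAlgSpace.yon_obj T) pbU
  have hUTq : IsQuasiCompactSp (pullback h c) :=
    hh.2 (IsAlgSpace.yon_obj T) ((isQuasiCompactSp_yon_iff T).2 inferInstance) c _ _ pbU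
  obtain ⟨U', p', hU', hp'e, hp's⟩ := exists_affine_chart_of_isQuasiCompactSp hUTq
  obtain ⟨h', hh'⟩ := (yon S).map_surjective (p' ≫ pullback.snd h c)
  let a' : (yon S).obj U' ⟶ U := p' ≫ pullback.fst h c
  have ha'e : RepWith @Etale a' :=
    (RepWith @Etale).comp_mem _ _ hp'e ((RepWith @Etale).of_isPullback pbU.flip hc)
  have comm : a' ≫ h = (yon S).map h' ≫ c := by
    rw [hh', Category.assoc, Category.assoc, pbU.w]
  refine ⟨U', a', h', hU', ha'e, comm, hh.1 a' c h' ha'e hc comm, ?_⟩
  have hd1 : Dense (Points.ofPt c ⁻¹' Set.range (Points.map h)) :=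
    hdense.preimage (isOpenMap_ofPt_of_etale c hc)
  refine hd1.mono ?_
  intro t ht
  have h1 : Points.ofScheme T t ∈ Points.map c ⁻¹' Set.range (Points.map h) := by
    change Points.map c (Points.ofScheme T t) ∈ Set.range (Points.map h)
    rw [← Points.ofPt_eq_map_ofScheme]
    exact ht
  rw [← range_map_of_isPullback pbU] at h1
  obtain ⟨z, hz⟩ := h1
  obtain ⟨u', rfl⟩ := surjective_ofPt p' hp's z
  rw [Points.map_ofPt, ← hh', Groth.Agent.Helper15.ofPt_yon_map] at hz
  exact ⟨u', (Points.schemeEquiv T).injective hz⟩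

set_option maxHeartbeats 800000 in
/-- Refined criterion of separatedness: uniqueness of lifts for discrete valuation ring squares whose
generic point factors through a dense finite type `U`. -/
theorem isSeparatedMor_of_dvr_uniq_dense {U X Y : Sp S} (hU : IsAlgSpace U) (hX : IsAlgSpace X)
    (hY : IsAlgSpace Y) (h : U ⟶ X) (f : X ⟶ Y) (hYn : IsLocNoethSp Y)
    (hflt : LocP @LocallyOfFiniteType f) (hfqs : IsQuasiSeparatedMor f) (hh : IsFiniteTypeMor h)
    (hdense : Dense (Set.range (Points.map h)))
    (hval : ∀ sq : ValSq (h ≫ f), IsDiscreteValuationRing sq.A →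
      ∀ l l' : (yon S).obj sq.ptA ⟶ X,
        (yon S).map sq.j ≫ l = sq.top ≫ h ∧ l ≫ f = sq.bot →
        (yon S).map sq.j ≫ l' = sq.top ≫ h ∧ l' ≫ f = sq.bot → l = l') :
    IsSeparatedMor f := by
  obtain ⟨hrep, hlft, hmono, -, -⟩ := diagonal_properties hX f
  have pbP : IsPullback (pullback.fst f f) (pullback.snd f f) f f := IsPullback.of_hasPullback _ _
  have hP : IsAlgSpace (pullback f f) := isAlgSpace_of_isPullback hY.diag hX hX pbP
  have hPn : IsLocNoethSp (pullback f f) := by
    have h1 : LocP @LocallyOfFiniteType (pullback.fst f f) :=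
      locP_of_isPullback goodP_lft srcEtLoc_lft hX hY hX pbP.flip hflt
    exact isLocNoethSp_of_locP_lft hP (pullback.fst f f ≫ f)
      (locP_comp goodP_lft srcEtLoc_lft hP hX hY _ _ h1 hflt) hYn
  obtain ⟨W, b, hbe, hbs⟩ := hP.atlas
  haveI : IsLocallyNoetherian W.left := isLocallyNoetherian_of_etale_of_isLocNoethSp hPn b hbe
  have hpb := hrep.isPullback b
  refine (repWith_iff_of_chart (pullback.diagonal f) hrep b hbe hbs (hrep.fst b) (hrep.snd b) hpb
    @IsClosedImmersion).2 ?_
  refine property_of_cover (P := @IsClosedImmersion) Scheme.zariskiPrecoverage hpb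
    (W.left.affineCover.mem₀) ?_
  rintro T' i ⟨j⟩ T fstT snd sq'
  let Wj : Over S := Over.mk (W.left.affineCover.f j ≫ W.hom)
  let ιj : Wj ⟶ W := Over.homMk (W.left.affineCover.f j) rfl
  haveI hWj : IsAffine Wj.left := by
    change IsAffine (W.left.affineCover.X j); infer_instance
  haveI hWjn : IsLocallyNoetherian Wj.left := by
    change IsLocallyNoetherian (W.left.affineCover.X j)
    exact isLocallyNoetherian_of_isOpenImmersion (W.left.affineCover.f j)
  let bj : (yon S).obj Wj ⟶ pullback f f := (yon S).map ιj ≫ b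
  have hbje : RepWith @Etale bj := by
    refine (RepWith @Etale).comp_mem _ _ ((repWith_yon_map_iff _ ιj).2 ?_) hbe
    change Etale (W.left.affineCover.f j)
    infer_instance
  have sqT : IsPullback fstT ((yon S).map snd) (pullback.diagonal f) bj := sq'
  haveI : QuasiCompact snd.left := hfqs.2 bj fstT snd sqT
  haveI : LocallyOfFiniteType snd.left := hlft.2 bj fstT snd sqT
  haveI : Mono snd.left := hmono.2 bj fstT snd sqT
  haveI : CompactSpace T.left := QuasiCompact.compactSpace_of_compactSpace snd.left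
  have hfstTe : RepWith @Etale fstT := (RepWith @Etale).of_isPullback sqT.flip hbje
  have hfst1 : fstT = (yon S).map snd ≫ bj ≫ pullback.fst f f := by
    rw [← Category.assoc, ← sqT.w, Category.assoc, pullback.diagonal_fst, Category.comp_id]
  have hfst2 : fstT = (yon S).map snd ≫ bj ≫ pullback.snd f f := by
    rw [← Category.assoc, ← sqT.w, Category.assoc, pullback.diagonal_snd, Category.comp_id]
  obtain ⟨U', a', h', hU', ha'e, comm, hh'lft, hh'd⟩ :=
    exists_dense_chart hU hX h hh hdense T fstT hfstTe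
  haveI := hU'
  haveI := hh'lft
  haveI : QuasiCompact (h'.left ≫ snd.left) := inferInstance
  haveI : QuasiCompact h'.left := QuasiCompact.of_comp h'.left snd.left
  change IsClosedImmersion snd.left
  rw [IsClosedImmersion.iff_isProper_and_mono]
  refine ⟨?_, inferInstance⟩
  refine Groth.Agent.S9209.result snd.left h'.left hh'd ?_
  intro A _ _ _ x y hxy
  let K := FractionRing A
  let strR : Spec (.of A) ⟶ S := y ≫ Wj.hom
  let iR : Over.mk strR ⟶ Wj := Over.homMk y rfl
  have hiK : x ≫ U'.hom = Spec.map (CommRingCat.ofHom (algebraMap A K)) ≫ strR := by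
    rw [← Over.w (h' ≫ snd), Over.comp_left, ← Category.assoc, ← Category.assoc,
      Category.assoc x, hxy, Category.assoc]
  let iK : Over.mk (Spec.map (CommRingCat.ofHom (algebraMap A K)) ≫ strR) ⟶ U' :=
    Over.homMk x hiK
  let jj : Over.mk (Spec.map (CommRingCat.ofHom (algebraMap A K)) ≫ strR) ⟶ Over.mk strR :=
    Over.homMk (Spec.map (CommRingCat.ofHom (algebraMap A K))) rfl
  have hjj : iK ≫ h' ≫ snd = jj ≫ iR := by
    ext
    exact hxy
  let a1 : (yon S).obj (Over.mk strR) ⟶ X := ((yon S).map iR ≫ bj) ≫ pullback.fst f f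
  let a2 : (yon S).obj (Over.mk strR) ⟶ X := ((yon S).map iR ≫ bj) ≫ pullback.snd f f
  have htop : ((yon S).map iK ≫ a') ≫ h = (yon S).map (jj ≫ iR) ≫ bj ≫ pullback.fst f f := by
    rw [Category.assoc, comm, hfst1, ← hjj]
    simp only [Functor.map_comp, Category.assoc]
  have htop2 : ((yon S).map iK ≫ a') ≫ h = (yon S).map (jj ≫ iR) ≫ bj ≫ pullback.snd f f := by
    rw [Category.assoc, comm, hfst2, ← hjj]
    simp only [Functor.map_comp, Category.assoc]
  have hkey1 : (yon S).map jj ≫ a1 = ((yon S).map iK ≫ a') ≫ h := by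
    rw [htop]
    simp only [a1, Functor.map_comp, Category.assoc]
  have hkey2 : (yon S).map jj ≫ a2 = ((yon S).map iK ≫ a') ≫ h := by
    rw [htop2]
    simp only [a2, Functor.map_comp, Category.assoc]
  have hcommv : ((yon S).map iK ≫ a') ≫ h ≫ f = (yon S).map jj ≫ a1 ≫ f := by
    have e1 : ((yon S).map iK ≫ a') ≫ h ≫ f = (((yon S).map iK ≫ a') ≫ h) ≫ f :=
      (Category.assoc _ _ _).symm
    rw [e1, ← hkey1, Category.assoc]
  let sqv : ValSq (h ≫ f) :=
    { A := A, K := K, str := strR, top := (yon S).map iK ≫ a', bot := a1 ≫ f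
      comm := hcommv }
  have hdvr : IsDiscreteValuationRing sqv.A := ‹IsDiscreteValuationRing A›
  have h12 : a1 = a2 := hval sqv hdvr a1 a2 ⟨hkey1, rfl⟩ ⟨hkey2, by
    change a2 ≫ f = a1 ≫ f
    simp only [a1, a2, Category.assoc, pullback.condition]⟩
  have hb : a1 ≫ pullback.diagonal f = (yon S).map iR ≫ bj := by
    apply pullback.hom_ext
    · rw [Category.assoc, pullback.diagonal_fst, Category.comp_id]
    · rw [Category.assoc, pullback.diagonal_snd, Category.comp_id, h12]
  obtain ⟨m, hm⟩ := (yon S).map_surjective (sqT.lift a1 ((yon S).map iR) hb)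
  have hm2 : m ≫ snd = iR := (yon S).map_injective (by rw [Functor.map_comp, hm, sqT.lift_snd])
  have hm3 : m.left ≫ snd.left = y := by rw [← Over.comp_left, hm2]; rfl
  refine ⟨m.left, hm3, ?_⟩
  rw [← cancel_mono snd.left, Category.assoc, hm3, Category.assoc, hxy]

end Groth.Agent.Helper19.DvrVC
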