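import Groth.Agent.Lib.Helper19.DvrVC.Closed
import Groth.Agent.S10053

/-!
# Noetherian (discrete valuation ring) existence criterion: universal closedness
-/

set_option autoImplicit false
universe u
open CategoryTheory CategoryTheory.Limits AlgebraicGeometry MorphismProperty TopologicalSpace
open AlgSp

namespace Groth.Agent.Helper19.DvrVC
open Groth.Agent.Helper15 Groth.Agent.Helper16.AS Groth.Agent.Helper19.ValCopy
variable {S : Scheme.{u}}

/-- The discrete valuation ring existence criterion is stable under base change. -/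
theorem dvrExist_of_isPullback {X Y Z X' : Sp S} {f : X ⟶ Y} {g : Z ⟶ Y} {fst : X' ⟶ X}
    {f' : X' ⟶ Z} (pb : IsPullback fst f' f g) (h : DvrExist f) : DvrExist f' := by
  intro sq hdvr
  obtain ⟨e, l, hl1, hl2⟩ := h (valSqPush sq fst g pb.w) hdvr
  have hl2' : l ≫ f = ((yon S).map (Over.homMk (Spec.map (CommRingCat.ofHom e.φ)) rfl :
      e.ptA' ⟶ sq.ptA) ≫ sq.bot) ≫ g := by
    rw [Category.assoc]; exact hl2
  refine ⟨domExtOfPush e, pb.lift l _ hl2', ?_, pb.lift_snd _ _ _⟩
  apply pb.hom_ext
  · rw [Category.assoc, pb.lift_fst, Category.assoc]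
    exact hl1
  · rw [Category.assoc, pb.lift_snd, Category.assoc, sq.comm, ← Category.assoc,
      ← Category.assoc, ← Functor.map_comp, ← Functor.map_comp]
    congr 2
    ext
    change Spec.map _ ≫ Spec.map _ = Spec.map _ ≫ Spec.map _
    rw [← Spec.map_comp, ← Spec.map_comp, ← CommRingCat.ofHom_comp, ← CommRingCat.ofHom_comp]
    exact congrArg (fun t => Spec.map (CommRingCat.ofHom t)) e.comm

/-- A morphism of finite type to a locally Noetherian algebraic space satisfying the existence part
of the valuative criterion for discrete valuation rings is universally closed. -/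
theorem isUnivClosedMor_of_dvrExist {X Y : AlgSp.Space S} (f : X ⟶ Y)
    (hft : IsFiniteTypeMor f.hom) (hYn : IsLocNoethSp Y.obj) (he : DvrExist f.hom) :
    IsUnivClosedMor f.hom := by
  refine ((Groth.Agent.S10053.result S f hft.2).1).2 ?_
  intro Z g hg P fst snd sq
  have hP : IsAlgSpace P := isAlgSpace_of_isPullback Y.property.diag X.property Z.property sq
  have hZn : IsLocNoethSp Z.obj :=
    isLocNoethSp_of_locP_lft Z.property g.hom (locP_mono lfp_le_lft hg) hYn
  exact isClosedMor_of_dvrExist hP Z.property snd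
    ⟨locP_of_isPullback goodP_lft srcEtLoc_lft X.property Y.property Z.property sq hft.1,
      Groth.Agent.Helper19.ValCopy.isQuasiCompactMor_of_isPullback sq hft.2⟩ hZn (dvrExist_of_isPullback sq he)

/-- A lift without extension gives a lift after the trivial extension (per square). -/
theorem hasLiftExt_of_hasLift {X Y : Sp S} {f : X ⟶ Y} (sq : ValSq f) (h : sq.HasLift) :
    sq.HasLiftExt := by
  obtain ⟨l, hl1, hl2⟩ := h
  let e : sq.DomExt :=
    { A' := sq.A, K' := sq.K, φ := RingHom.id _, ψ := RingHom.id _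
      comm := by rw [RingHom.comp_id, RingHom.id_comp]
      isLocalHom := ⟨fun _ h => h⟩ }
  have hA : Spec.map (CommRingCat.ofHom e.φ) ≫ sq.str = sq.str := by
    change Spec.map (CommRingCat.ofHom (RingHom.id sq.A)) ≫ sq.str = sq.str
    rw [CommRingCat.ofHom_id, Spec.map_id, Category.id_comp]
  have hK' : Spec.map (CommRingCat.ofHom e.ψ) ≫ sq.ptK.hom = sq.ptK.hom := by
    change Spec.map (CommRingCat.ofHom (RingHom.id sq.K)) ≫ sq.ptK.hom = sq.ptK.hom
    rw [CommRingCat.ofHom_id, Spec.map_id, Category.id_comp]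
  refine ⟨e, domExt_hasLift_of e sq.str sq.ptK.hom hA rfl hK' l ?_ ?_⟩
  · refine hl1.trans ?_
    have : (Over.homMk (Spec.map (CommRingCat.ofHom e.ψ)) hK' : sq.ptK ⟶ sq.ptK) = 𝟙 _ := by
      ext
      change Spec.map (CommRingCat.ofHom (RingHom.id sq.K)) = 𝟙 _
      rw [CommRingCat.ofHom_id, Spec.map_id]
    rw [this]
    erw [CategoryTheory.Functor.map_id, Category.id_comp]
  · refine hl2.trans ?_
    have : (Over.homMk (Spec.map (CommRingCat.ofHom e.φ)) hA : sq.ptA ⟶ sq.ptA) = 𝟙 _ := by
      ext
      change Spec.map (CommRingCat.ofHom (RingHom.id sq.A)) = 𝟙 _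
      rw [CommRingCat.ofHom_id, Spec.map_id]
    rw [this, CategoryTheory.Functor.map_id, Category.id_comp]

end Groth.Agent.Helper19.DvrVC
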